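import Groth.Agent.Deform.QuasiSection.Affine
import Groth.Agent.Deform.OpenQF.Main
import Groth.Agent.Deform.Neutral.UnivOpen
import Groth.Agent.FibDim.Alg

/-!
# Quasi-sections through a point (EGA IV 14.5.3)
-/

set_option autoImplicit false
set_option linter.style.haveILetI false

universe u

open CategoryTheory CategoryTheory.Limits AlgebraicGeometry TensorProduct

namespace Groth.Agent.Deform.QuasiSection

noncomputable section

/-- A chart around a point with a quasi-finite map to affine space of dimension at most the local one. -/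
theorem exists_chart {X S : Scheme.{u}} (f : X ⟶ S) [LocallyOfFinitePresentation f] (x : X) (n : ℕ) (W : X.Opens)
    (hxW : x ∈ W) (hW : topologicalKrullDim ↥((W : Set X) ∩ f ⁻¹' {f x}) ≤ n) :
    ∃ (V : S.Opens) (hV : IsAffineOpen V) (B : Type u) (_ : CommRing B) (φ : Γ(S, V) →+* B)
      (_ : φ.FinitePresentation) (j : Spec (CommRingCat.of B) ⟶ X) (_ : IsOpenImmersion j)
      (m : ℕ) (b : ULift.{u} (Fin m) → B) (P : PrimeSpectrum B),
      j ≫ f = Spec.map (CommRingCat.ofHom φ) ≫ hV.fromSpec ∧ m ≤ n ∧ j P = x ∧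
      (letI := φ.toAlgebra
       letI := (MvPolynomial.aeval (R := Γ(S, V)) b).toRingHom.toAlgebra
       Algebra.QuasiFinite (MvPolynomial (ULift.{u} (Fin m)) Γ(S, V)) B) := by
  obtain ⟨V, hV, hxV, -⟩ := exists_isAffineOpen_mem_and_subset (show f x ∈ (⊤ : S.Opens) from trivial)
  obtain ⟨U, hU, hxU, hUW⟩ := exists_isAffineOpen_mem_and_subset (show x ∈ W ⊓ f ⁻¹ᵁ V from ⟨hxW, hxV⟩)
  have hUV : U ≤ f ⁻¹ᵁ V := fun y hy => (hUW hy).2
  let A := Γ(S, V)
  let B₀ := Γ(X, U)
  letI : Algebra A B₀ := (f.appLE V U hUV).hom.toAlgebra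
  haveI : Algebra.FinitePresentation A B₀ := f.finitePresentation_appLE hV hU hUV
  have hcomm : ∀ R : PrimeSpectrum B₀,
      f (hU.fromSpec R) = hV.fromSpec (PrimeSpectrum.comap (algebraMap A B₀) R) := fun R => by
    rw [← Scheme.Hom.comp_apply, ← IsAffineOpen.SpecMap_appLE_fromSpec f hV hU hUV]; rfl
  obtain ⟨P₀, hP₀⟩ : ∃ P₀ : PrimeSpectrum B₀, hU.fromSpec P₀ = x := by
    have : x ∈ Set.range hU.fromSpec := by rw [hU.range_fromSpec]; exact hxU
    exact this
  have hdim : ringKrullDim ((PrimeSpectrum.comap (algebraMap A B₀) P₀).asIdeal.Fiber B₀) ≤ n := by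
    rw [← FibDim.topologicalKrullDim_fib]
    refine le_trans ?_ hW
    let m : ↥(FibDim.fib (B := B₀) (PrimeSpectrum.comap (algebraMap A B₀) P₀)) → ↥((W : Set X) ∩ f ⁻¹' {f x}) :=
      fun R => ⟨hU.fromSpec R.1, (hUW (hU.range_fromSpec.le ⟨R.1, rfl⟩)).1, by
        show f (hU.fromSpec R.1) = f x
        rw [hcomm, ← hP₀, hcomm]
        exact congrArg _ R.2⟩
    have hm : Topology.IsInducing m :=
      (Topology.IsInducing.subtypeVal.of_comp_iff (f := m)).mp
        (hU.fromSpec.isOpenEmbedding.isInducing.comp Topology.IsInducing.subtypeVal)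
    exact hm.topologicalKrullDim_le
  obtain ⟨m, hmn, b, g, -, -, hg, hQF⟩ := FibDim.exists_quasiFinite (A := A) P₀ n hdim
  let B := Localization.Away g
  let φ : A →+* B := (algebraMap B₀ B).comp (algebraMap A B₀)
  let j : Spec (CommRingCat.of B) ⟶ X := Spec.map (CommRingCat.ofHom (algebraMap B₀ B)) ≫ hU.fromSpec
  haveI : IsOpenImmersion (Spec.map (CommRingCat.ofHom (algebraMap B₀ B))) := IsOpenImmersion.of_isLocalization g
  obtain ⟨P, hP⟩ := (PrimeSpectrum.localization_away_comap_range B g).ge hg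
  let b' : ULift.{u} (Fin m) → B := fun i => algebraMap B₀ B (b i.down)
  refine ⟨V, hV, B, inferInstance, φ, ?_, j, inferInstance, m, b', P, ?_, hmn, ?_, ?_⟩
  · show φ.FinitePresentation
    exact (RingHom.finitePresentation_algebraMap.mpr (IsLocalization.Away.finitePresentation g)).comp
      (RingHom.finitePresentation_algebraMap.mpr inferInstance)
  · rw [CommRingCat.ofHom_comp, Spec.map_comp, Category.assoc, Category.assoc]
    exact congrArg _ (IsAffineOpen.SpecMap_appLE_fromSpec f hV hU hUV).symm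
  · rw [← hP₀, ← hP]
    rfl
  · have hinst : φ.toAlgebra = (inferInstance : Algebra A B) :=
      Algebra.algebra_ext _ _ fun a => (IsScalarTower.algebraMap_apply A B₀ B a).symm
    rw [show φ = (algebraMap B₀ B).comp (algebraMap A B₀) from rfl] at hinst ⊢
    rw [hinst]
    letI alg1 : Algebra (MvPolynomial (Fin m) A) B₀ := (MvPolynomial.aeval (R := A) b).toRingHom.toAlgebra
    letI alg2 : Algebra (MvPolynomial (ULift.{u} (Fin m)) A) B := (MvPolynomial.aeval (R := A) b').toRingHom.toAlgebra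
    haveI : Algebra.QuasiFinite (MvPolynomial (Fin m) A) B := hQF
    let r : MvPolynomial (Fin m) A →ₐ[A] MvPolynomial (ULift.{u} (Fin m)) A := MvPolynomial.rename ULift.up
    letI alg3 : Algebra (MvPolynomial (Fin m) A) (MvPolynomial (ULift.{u} (Fin m)) A) := r.toRingHom.toAlgebra
    haveI : IsScalarTower (MvPolynomial (Fin m) A) (MvPolynomial (ULift.{u} (Fin m)) A) B := .of_algebraMap_eq fun x => by
      show algebraMap B₀ B (MvPolynomial.aeval b x) = MvPolynomial.aeval b' (MvPolynomial.rename ULift.up x)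
      rw [MvPolynomial.aeval_rename]
      exact DFunLike.congr_fun (MvPolynomial.comp_aeval (f := b) (IsScalarTower.toAlgHom A B₀ B)) x
    exact Algebra.QuasiFinite.of_restrictScalars (MvPolynomial (Fin m) A) (MvPolynomial (ULift.{u} (Fin m)) A) B

theorem residueFieldMap_isIso {T X : Scheme.{u}} {L : Type u} [Field L] (l : Spec (CommRingCat.of L) ⟶ T) (h : T ⟶ X)
    [IsPreimmersion (l ≫ h)] : IsIso (h.residueFieldMap (l (IsLocalRing.closedPoint L))) := by
  let c : ↥(Spec (CommRingCat.of L)) := IsLocalRing.closedPoint L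
  have hs : Function.Surjective ((l ≫ h).residueFieldMap c).hom := by
    intro y
    obtain ⟨z, rfl⟩ := IsLocalRing.residue_surjective (R := (Spec (CommRingCat.of L)).presheaf.stalk c) y
    obtain ⟨w, rfl⟩ := (l ≫ h).stalkMap_surjective c z
    exact ⟨X.residue _ w, congrArg (fun k => k.hom w) (Scheme.residue_residueFieldMap (l ≫ h) c)⟩
  rw [Scheme.residueFieldMap_comp] at hs
  have hs' : Function.Surjective (h.residueFieldMap (l c)).hom := by
    intro y
    obtain ⟨z, hz⟩ := hs ((l.residueFieldMap c).hom y)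
    exact ⟨z, (l.residueFieldMap c).hom.injective hz⟩
  exact ((ConcreteCategory.isIso_iff_bijective _).mpr ⟨(h.residueFieldMap (l c)).hom.injective, hs'⟩ :)

set_option maxHeartbeats 800000 in
/-- EGA IV 14.5.3. -/
theorem exists_quasiSection {X S : Scheme.{u}} (f : X ⟶ S) [LocallyOfFinitePresentation f] (x z : X)
    (hx : IsClosed ((Subtype.val : ↥(f ⁻¹' {f x}) → X) ⁻¹' {x})) (n : ℕ) (W : X.Opens) (hxW : x ∈ W)
    (hW : topologicalKrullDim ↥((W : Set X) ∩ f ⁻¹' {f x}) ≤ n)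
    (hzx : z ⤳ x) (hfz : f z = f x) (hz : FibDim.FibMax f z) (hrd : FibDim.rd f z = n)
    (hopen : EGA43.IsUnivOpenAt f z) :
    ∃ (S' S'' : Scheme.{u}) (_ : IsAffine S') (w : S' ⟶ S) (π : S'' ⟶ S') (h : S'' ⟶ X),
      Etale w ∧ IsFinite π ∧ Surjective π ∧ LocallyOfFinitePresentation π ∧ h ≫ f = π ≫ w ∧
      ∃ s'' : S'', (π ≫ w) ⁻¹' {f x} = {s''} ∧ h s'' = x ∧ IsIso (h.residueFieldMap s'') := by
  obtain ⟨V, hV, B, _, φ, hfp, j, hj, m, b, P, hjf, hmn, hjP, hQF⟩ := exists_chart f x n W hxW hW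
  let A := Γ(S, V)
  letI : Algebra A B := φ.toAlgebra
  haveI : Algebra.FinitePresentation A B := hfp
  let aev : MvPolynomial (ULift.{u} (Fin m)) A →+* B := (MvPolynomial.aeval (R := A) b).toRingHom
  let e := AffineSpace.SpecIso (ULift.{u} (Fin m)) (CommRingCat.of A)
  let mV : 𝔸(ULift.{u} (Fin m); Spec (CommRingCat.of A)) ⟶ 𝔸(ULift.{u} (Fin m); S) :=
    AffineSpace.map (ULift.{u} (Fin m)) hV.fromSpec
  haveI : IsOpenImmersion mV := MorphismProperty.of_isPullback (AffineSpace.isPullback_map hV.fromSpec).flip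
    (inferInstanceAs (IsOpenImmersion hV.fromSpec))
  let u₀ : Spec (CommRingCat.of B) ⟶ 𝔸(ULift.{u} (Fin m); S) := Spec.map (CommRingCat.ofHom aev) ≫ (e.inv ≫ mV)
  haveI : LocallyQuasiFinite (Spec.map (CommRingCat.ofHom aev)) :=
    (HasRingHomProperty.Spec_iff (P := @LocallyQuasiFinite)).mpr hQF
  haveI : LocallyQuasiFinite u₀ := inferInstance
  have hu : u₀ ≫ (𝔸(ULift.{u} (Fin m); S) ↘ S) = j ≫ f := by
    rw [hjf]
    simp only [u₀, mV, e, Category.assoc, AffineSpace.map_over, AffineSpace.SpecIso_inv_over_assoc]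
    rw [← Spec.map_comp_assoc, ← CommRingCat.ofHom_comp]
    congr 3
    exact RingHom.ext fun a => (MvPolynomial.aeval (R := A) b).commutes a
  obtain ⟨z', hz'⟩ : z ∈ Set.range j := hzx.mem_open j.opensRange.isOpen ⟨P, hjP⟩
  let xP : ↥(Spec (CommRingCat.of B)) := P
  have hz'x : z' ⤳ xP := j.isOpenEmbedding.isInducing.specializes_iff.mp (by rw [hz', hjP]; exact hzx)
  have hfz' : (j ≫ f) z' = (j ≫ f) xP := by
    rw [Scheme.Hom.comp_apply, Scheme.Hom.comp_apply, hz', hjP, hfz]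
  have hzmax : FibDim.FibMax (j ≫ f) z' := fun w h h' =>
    j.isOpenEmbedding.injective ((hz (j w) (hz' ▸ h.map j.continuous) (hz' ▸ h')).trans hz'.symm)
  haveI : LocallyOfFiniteType j := inferInstance
  have hrd' : FibDim.rd (j ≫ f) z' = n := by
    rw [FibDim.rd_comp, FibDim.rd_eq_zero_of_quasiFinite j z', Nat.add_zero, hz', hrd]
  obtain rfl : m = n := by
    refine le_antisymm hmn ?_
    haveI := OpenQF.lfp_of_toAffineSpace (j ≫ f) u₀ hu
    rw [← hrd', ← hu, FibDim.rd_comp, FibDim.rd_eq_zero_of_quasiFinite u₀ z', Nat.add_zero]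
    exact FibDim.rd_affineSpace_le m _
  have hopen' : EGA43.IsUnivOpenAt (j ≫ f) z' :=
    Groth.Agent.S4925.result j f z' (Neutral.isUnivOpenAt_openImmersion j z') (by rw [hz']; exact hopen)
  have ho : EGA43.IsUnivOpenAt u₀ xP := OpenQF.isUnivOpenAt (j ≫ f) u₀ hu xP z' hz'x hfz' hzmax hrd' hopen'
  have ho' : EGA43.IsUnivOpenAt (Spec.map (CommRingCat.ofHom aev)) xP :=
    Neutral.isUnivOpenAt_of_comp_mono _ (e.inv ≫ mV) ho
  let pP : PrimeSpectrum A := PrimeSpectrum.comap (algebraMap A B) P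
  haveI : P.asIdeal.LiesOver pP.asIdeal := ⟨rfl⟩
  have hjt : ∀ t, f (j t) = hV.fromSpec (PrimeSpectrum.comap φ t) := fun t => by
    rw [← Scheme.Hom.comp_apply, hjf]; rfl
  have hsp : hV.fromSpec pP = f x := by rw [← hjP, hjt]; rfl
  have hclosed : IsClosed ((Subtype.val : ↥(PrimeSpectrum.comap (algebraMap A B) ⁻¹' {pP}) → PrimeSpectrum B) ⁻¹' {P}) := by
    let jF : ↥(PrimeSpectrum.comap (algebraMap A B) ⁻¹' {pP}) → ↥(f ⁻¹' {f x}) := fun t => ⟨j t.1, by
      show f (j t.1) = f x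
      rw [hjt, ← hsp]
      exact congrArg _ t.2⟩
    have hjF : Continuous jF := (j.continuous.comp continuous_subtype_val).subtype_mk _
    convert hx.preimage hjF using 1
    ext t
    show t.1 = P ↔ j t.1 = x
    rw [← hjP]
    exact ⟨fun h => h ▸ rfl, fun h => j.isOpenEmbedding.injective h⟩
  have hres := finite_residueField_of_isClosed pP.asIdeal P.asIdeal hclosed
  obtain ⟨R', _, χA, hetale, Pp, D, _, π, hπfin, hπfp, ψ, χ, hcomm, hPp, hχ, hnhds, huniq⟩ :=
    exists_etale_finite (A := A) b hQF pP.asIdeal P.asIdeal hres ho'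
  let eR : Spec (CommRingCat.of R') ⟶ Spec (CommRingCat.of A) := Spec.map (CommRingCat.ofHom χA)
  haveI : Etale eR := HasRingHomProperty.Spec_iff.mpr hetale
  haveI : DiscreteTopology ↥(eR ⁻¹' {(pP : ↥(Spec (CommRingCat.of A)))}) :=
    isDiscrete_iff_discreteTopology.1 (eR.isDiscrete_preimage_singleton _)
  obtain ⟨O, hO, hOeq⟩ := isOpen_induced_iff.mp
    (isOpen_discrete {(⟨Pp, hPp⟩ : ↥(eR ⁻¹' {(pP : ↥(Spec (CommRingCat.of A)))}))})
  obtain ⟨N, hN, hPN, hNsub⟩ := exists_isAffineOpen_mem_and_subset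
    (show (Pp : ↥(Spec (CommRingCat.of R'))) ∈ (⟨O ∩ interior (Set.range (PrimeSpectrum.comap π)),
      hO.inter isOpen_interior⟩ : (Spec (CommRingCat.of R')).Opens) from
      ⟨(Set.ext_iff.mp hOeq ⟨Pp, hPp⟩).mpr rfl, mem_interior_iff_mem_nhds.mpr hnhds⟩)
  haveI : IsFinite (Spec.map (CommRingCat.ofHom π)) := (IsFinite.SpecMap_iff _).mpr hπfin
  haveI : LocallyOfFinitePresentation (Spec.map (CommRingCat.ofHom π)) :=
    (LocallyOfFinitePresentation.SpecMap_iff _).mpr hπfp
  let πS := Spec.map (CommRingCat.ofHom π)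
  let hX : Spec (CommRingCat.of D) ⟶ X := Spec.map (CommRingCat.ofHom ψ) ≫ j
  let w : N.toScheme ⟶ S := N.ι ≫ eR ≫ hV.fromSpec
  have hcompat : hX ≫ f = πS ≫ eR ≫ hV.fromSpec := by
    rw [Category.assoc, hjf, ← Spec.map_comp_assoc, ← CommRingCat.ofHom_comp]
    show Spec.map (CommRingCat.ofHom (ψ.comp (algebraMap A B))) ≫ _ = _
    rw [hcomm, CommRingCat.ofHom_comp, Spec.map_comp_assoc]
  let dχ : PrimeSpectrum D := ⟨RingHom.ker χ, RingHom.ker_isPrime _⟩
  have hdχ : PrimeSpectrum.comap π dχ = Pp := (huniq dχ).mpr rfl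
  have hdN : (dχ : ↥(Spec (CommRingCat.of D))) ∈ πS ⁻¹ᵁ N := by
    show πS dχ ∈ N
    rw [show πS dχ = (Pp : ↥(Spec (CommRingCat.of R'))) from hdχ]
    exact hPN
  have hd0 : ∀ t : ↥(Spec (CommRingCat.of P.asIdeal.ResidueField)), Spec.map (CommRingCat.ofHom χ) t = dχ := fun t => by
    rw [@Subsingleton.elim (Spec (CommRingCat.of P.asIdeal.ResidueField)) inferInstance t (IsLocalRing.closedPoint _)]
    refine PrimeSpectrum.ext ?_
    show (IsLocalRing.maximalIdeal P.asIdeal.ResidueField).comap χ = RingHom.ker χ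
    rw [IsLocalRing.maximalIdeal_eq_bot, ← RingHom.ker_eq_comap_bot]
  let l : Spec (CommRingCat.of P.asIdeal.ResidueField) ⟶ (πS ⁻¹ᵁ N).toScheme :=
    IsOpenImmersion.lift (πS ⁻¹ᵁ N).ι (Spec.map (CommRingCat.ofHom χ)) (by
      rintro _ ⟨t, rfl⟩
      rw [Scheme.Opens.range_ι, hd0]
      exact hdN)
  let h : (πS ⁻¹ᵁ N).toScheme ⟶ X := (πS ⁻¹ᵁ N).ι ≫ hX
  have hlh : l ≫ h = Spec.map (CommRingCat.ofHom (algebraMap B P.asIdeal.ResidueField)) ≫ j := by
    rw [IsOpenImmersion.lift_fac_assoc, ← Category.assoc, ← Spec.map_comp, ← CommRingCat.ofHom_comp, hχ]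
  have hl : (l (IsLocalRing.closedPoint _)).1 = (dχ : ↥(Spec (CommRingCat.of D))) := by
    show (πS ⁻¹ᵁ N).ι (l _) = _
    rw [← Scheme.Hom.comp_apply, IsOpenImmersion.lift_fac, hd0]
  haveI : IsAffine N.toScheme := hN
  haveI : Surjective (πS ∣_ N) := ⟨fun y => by
    obtain ⟨t, ht⟩ := interior_subset (hNsub y.2).2
    have ht' : πS t = N.ι y := ht
    refine ⟨⟨t, show πS t ∈ N by rw [ht']; exact y.2⟩, N.ι.isOpenEmbedding.injective ?_⟩
    rw [← Scheme.Hom.comp_apply, morphismRestrict_ι, Scheme.Hom.comp_apply]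
    exact ht'⟩
  refine ⟨N.toScheme, (πS ⁻¹ᵁ N).toScheme, hN, w, πS ∣_ N, h, inferInstance, inferInstance, inferInstance,
    inferInstance, ?_, l (IsLocalRing.closedPoint _), ?_, ?_, ?_⟩
  · rw [Category.assoc, hcompat, ← Category.assoc ((πS ⁻¹ᵁ N).ι), ← morphismRestrict_ι, Category.assoc]
  · have hmap : ∀ t, ((πS ∣_ N) ≫ w) t = hV.fromSpec (eR (πS t.1)) := fun t => by
      rw [← Category.assoc, morphismRestrict_ι]
      rfl
    ext t
    rw [Set.mem_preimage, Set.mem_singleton_iff, Set.mem_singleton_iff, hmap, ← hsp,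
      hV.fromSpec.isOpenEmbedding.injective.eq_iff]
    constructor
    · intro ht
      have h1 := (Set.ext_iff.mp hOeq ⟨πS t.1, ht⟩).mp (hNsub t.2).1
      have h2 : PrimeSpectrum.comap π t.1 = Pp := congrArg Subtype.val h1
      exact Subtype.ext ((PrimeSpectrum.ext ((huniq _).mp h2) : (t.1 : PrimeSpectrum D) = dχ).trans hl.symm)
    · rintro rfl
      rw [hl, show πS dχ = (Pp : ↥(Spec (CommRingCat.of R'))) from hdχ]
      exact hPp
  · rw [← Scheme.Hom.comp_apply, hlh, Scheme.Hom.comp_apply, ← hjP]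
    congr 1
    refine PrimeSpectrum.ext ?_
    show (IsLocalRing.maximalIdeal _).comap (algebraMap B P.asIdeal.ResidueField) = _
    rw [IsLocalRing.maximalIdeal_eq_bot, ← RingHom.ker_eq_comap_bot, Ideal.ker_algebraMap_residueField]
  · haveI : IsPreimmersion (Spec.map (CommRingCat.ofHom (algebraMap B P.asIdeal.ResidueField))) := by
      haveI : Subsingleton (PrimeSpectrum P.asIdeal.ResidueField) := inferInstance
      exact IsPreimmersion.mk_SpecMap ⟨⟨Subsingleton.elim _ _⟩, fun _ _ _ => Subsingleton.elim _ _⟩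
        P.asIdeal.surjectiveOnStalks_residueField
    haveI : IsPreimmersion (l ≫ h) := by rw [hlh]; infer_instance
    exact residueFieldMap_isIso l h

end

end Groth.Agent.Deform.QuasiSection
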