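import Groth.Agent.CAlgOdd.FiniteResidue
import Groth.Agent.UnivOpen.Criterion
import Groth.Agent.UnivOpen.Chevalley
import Groth.Agent.QHomeo.OpenAt
import Groth.Agent.S4925
import Mathlib.RingTheory.Etale.QuasiFinite
import Groth.Prelude.Def_EGA43

/-!
# Quasi-sections: the affine construction (EGA IV 14.5)
-/

set_option autoImplicit false
set_option linter.style.haveILetI false

universe u

open CategoryTheory CategoryTheory.Limits AlgebraicGeometry TensorProduct

namespace Groth.Agent.Deform.QuasiSection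

theorem isUnivOpenAt_baseChange {X Y X' Y' : Scheme.{u}} {p : X' ⟶ X} {q : X' ⟶ Y'} {f : X ⟶ Y} {g : Y' ⟶ Y}
    (h : IsPullback p q f g) {x' : X'} (hf : EGA43.IsUnivOpenAt f (p x')) : EGA43.IsUnivOpenAt q x' := by
  intro T t z hz
  refine QHomeo.univOpenAt_openAt hf ((IsPullback.of_hasPullback q t).paste_horiz h) z ?_
  rw [Scheme.Hom.comp_apply]
  exact congrArg p hz

theorem finite_residueField_of_isClosed {A B : Type u} [CommRing A] [CommRing B] [Algebra A B]
    [Algebra.FiniteType A B] (p : Ideal A) [p.IsPrime] (P : Ideal B) [P.IsPrime] [P.LiesOver p]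
    (h : IsClosed ((Subtype.val : ↥(PrimeSpectrum.comap (algebraMap A B) ⁻¹' {⟨p, ‹_›⟩}) → PrimeSpectrum B) ⁻¹'
      {⟨P, ‹_›⟩})) :
    (Ideal.ResidueField.map p P (algebraMap A B) (P.over_def p)).Finite := by
  letI : Algebra p.ResidueField P.ResidueField := (Ideal.ResidueField.map p P (algebraMap A B) (P.over_def p)).toAlgebra
  haveI : IsScalarTower A p.ResidueField P.ResidueField := .of_algebraMap_eq fun a => by
    rw [RingHom.algebraMap_toAlgebra, Ideal.ResidueField.map_algebraMap, ← IsScalarTower.algebraMap_apply]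
  show Module.Finite p.ResidueField P.ResidueField
  let e := PrimeSpectrum.preimageHomeomorphFiber A B ⟨p, ‹_›⟩
  have hP : (⟨P, ‹_›⟩ : PrimeSpectrum B) ∈ PrimeSpectrum.comap (algebraMap A B) ⁻¹' {⟨p, ‹_›⟩} :=
    PrimeSpectrum.ext (P.over_def p).symm
  let P₀ := e ⟨⟨P, ‹_›⟩, hP⟩
  have hmax : P₀.asIdeal.IsMaximal := by
    rw [← PrimeSpectrum.isClosed_singleton_iff_isMaximal, ← Set.image_singleton, e.isClosed_image]
    convert h using 1
    ext z
    exact Subtype.ext_iff
  letI := Ideal.Quotient.field P₀.asIdeal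
  haveI : Module.Finite p.ResidueField (p.Fiber B ⧸ P₀.asIdeal) := finite_of_finite_type_of_isJacobsonRing _ _
  let ι : B →+* p.Fiber B ⧸ P₀.asIdeal := (Ideal.Quotient.mk _).comp
    (Algebra.TensorProduct.includeRight (R := A) (A := p.ResidueField) (B := B)).toRingHom
  have hι : P = RingHom.ker ι := by
    have h1 : PrimeSpectrum.comap (Algebra.TensorProduct.includeRight (R := A)
        (A := p.ResidueField) (B := B)).toRingHom P₀ = ⟨P, ‹_›⟩ :=
      congrArg (fun z => z.1) (e.symm_apply_apply ⟨⟨P, ‹_›⟩, hP⟩)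
    have h2 := congrArg PrimeSpectrum.asIdeal h1
    refine h2.symm.trans (Ideal.ext fun b => ?_)
    exact (Ideal.Quotient.eq_zero_iff_mem (I := P₀.asIdeal) (a := (1 : p.ResidueField) ⊗ₜ[A] b)).symm
  let ψ : P.ResidueField →+* p.Fiber B ⧸ P₀.asIdeal := Ideal.ResidueField.lift P ι (hι ▸ le_rfl) fun b hb =>
    IsUnit.mk0 _ fun h0 => hb (hι ▸ h0 : b ∈ P)
  let ψ' : P.ResidueField →ₐ[p.ResidueField] p.Fiber B ⧸ P₀.asIdeal :=
    { ψ with
      commutes' := fun c => by
        refine RingHom.congr_fun (Ideal.ResidueField.ringHom_ext (f := ψ.comp (algebraMap p.ResidueField P.ResidueField))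
          (g := algebraMap p.ResidueField (p.Fiber B ⧸ P₀.asIdeal)) ?_) c
        ext a
        simp only [RingHom.comp_apply]
        rw [← IsScalarTower.algebraMap_apply A p.ResidueField P.ResidueField,
          IsScalarTower.algebraMap_apply A B P.ResidueField]
        show ψ (algebraMap B P.ResidueField (algebraMap A B a)) = _
        rw [Ideal.ResidueField.lift_algebraMap]
        show Ideal.Quotient.mk _ (1 ⊗ₜ algebraMap A B a) = Ideal.Quotient.mk _ (algebraMap A p.ResidueField a ⊗ₜ 1)
        rw [Algebra.algebraMap_eq_smul_one, ← TensorProduct.smul_tmul, ← Algebra.algebraMap_eq_smul_one] }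
  exact Module.Finite.of_injective ψ'.toLinearMap ψ.injective

set_option maxHeartbeats 1000000 in
/-- The finite part of an étale localization at a point where a morphism is quasi-finite and open. -/
theorem exists_etale_finite_part {A C L : Type u} [CommRing A] [CommRing C] [Algebra A C]
    [Algebra.FinitePresentation A C] [Algebra.QuasiFinite A C] [Field L] [Algebra A L] (χC : C →ₐ[A] L)
    (p : Ideal A) [p.IsPrime] [Algebra p.ResidueField L] [IsScalarTower A p.ResidueField L] (q : Ideal C) [q.IsPrime]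
    (hq : RingHom.ker χC = q) [q.LiesOver p]
    (ho2 : EGA43.IsUnivOpenAt (Spec.map (CommRingCat.ofHom (algebraMap A C))) (⟨q, ‹_›⟩ : PrimeSpectrum C)) :
    ∃ (R' : Type u) (_ : CommRing R') (φ : A →+* R') (_ : φ.Etale) (Pp : PrimeSpectrum R')
      (D : Type u) (_ : CommRing D) (π : R' →+* D) (_ : π.Finite) (_ : π.FinitePresentation) (ψ : C →+* D)
      (χ : D →+* L),
      ψ.comp (algebraMap A C) = π.comp φ ∧ PrimeSpectrum.comap φ Pp = ⟨p, ‹_›⟩ ∧
      χ.comp ψ = χC.toRingHom ∧
      Set.range (PrimeSpectrum.comap π) ∈ nhds Pp ∧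
      (∀ d : PrimeSpectrum D, PrimeSpectrum.comap π d = Pp ↔ d.asIdeal = RingHom.ker χ) := by
  obtain ⟨R', _, _, _, Pp, _, _, e, -, P', _, _, hP'q, heP', hbij, hfinD, huniq⟩ :=
    Algebra.exists_etale_isIdempotentElem_forall_liesOver_eq p q
  let D := Localization.Away e
  haveI : Algebra.FinitePresentation (R' ⊗[A] C) D := IsLocalization.Away.finitePresentation e
  haveI : Algebra.FinitePresentation R' (R' ⊗[A] C) := inferInstance
  haveI : Algebra.FinitePresentation R' D := .trans R' (R' ⊗[A] C) D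
  let ec := RingEquiv.ofBijective _ hbij
  let θ : R' →+* L := ((algebraMap p.ResidueField L).comp ec.symm.toRingHom).comp (algebraMap R' Pp.ResidueField)
  have hθA : ∀ a, θ (algebraMap A R' a) = algebraMap A L a := fun a => by
    have : ec (algebraMap A p.ResidueField a) = algebraMap R' Pp.ResidueField (algebraMap A R' a) := by
      show Ideal.ResidueField.mapₐ p Pp (Algebra.ofId A R') (Pp.over_def p) (algebraMap A p.ResidueField a) = _
      rw [AlgHom.commutes, ← IsScalarTower.algebraMap_apply]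
    show algebraMap p.ResidueField L (ec.symm (algebraMap R' Pp.ResidueField (algebraMap A R' a))) = _
    rw [← this, RingEquiv.symm_apply_apply, ← IsScalarTower.algebraMap_apply]
  have hθker : RingHom.ker θ = Pp := by
    ext r
    show algebraMap p.ResidueField L (ec.symm (algebraMap R' Pp.ResidueField r)) = 0 ↔ _
    rw [map_eq_zero, ← ec.symm.map_zero, ec.symm.injective.eq_iff, Ideal.algebraMap_residueField_eq_zero]
  let χT : R' ⊗[A] C →ₐ[A] L := Algebra.TensorProduct.lift
    { θ with commutes' := hθA } χC (fun _ _ => Commute.all _ _)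
  have hTl : ∀ r : R', χT (r ⊗ₜ 1) = θ r := fun r => by
    rw [Algebra.TensorProduct.lift_tmul, map_one, mul_one]; rfl
  have hTr : ∀ y : C, χT (1 ⊗ₜ y) = χC y := fun y => by
    rw [Algebra.TensorProduct.lift_tmul, map_one, _root_.one_mul]
  let P'' : Ideal (R' ⊗[A] C) := RingHom.ker χT
  haveI : P''.IsPrime := RingHom.ker_isPrime _
  haveI : P''.LiesOver Pp := ⟨by
    ext r
    rw [Ideal.under_def, Ideal.mem_comap]
    show r ∈ Pp ↔ χT (r ⊗ₜ 1) = 0
    rw [← hθker, hTl]
    rfl⟩
  have hPeq : P'' = P' := by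
    refine Ideal.eq_of_comap_eq_comap_of_bijective_residueFieldMap hbij P'' P' ?_
    rw [hP'q, ← hq]
    ext y
    show χT (1 ⊗ₜ y) = 0 ↔ χC y = 0
    rw [hTr]
  have heu : IsUnit (χT e) := IsUnit.mk0 _ fun h0 => heP' (hPeq ▸ (h0 : e ∈ P''))
  let χ : D →+* L := IsLocalization.Away.lift (S := D) e (g := χT.toRingHom) heu
  have hχ : ∀ z, χ (algebraMap _ D z) = χT z := fun z => IsLocalization.Away.lift_eq e heu z
  let ψ : C →+* D := (algebraMap (R' ⊗[A] C) D).comp
    (Algebra.TensorProduct.includeRight (R := A) (A := R') (B := C)).toRingHom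
  have hkerχ : (RingHom.ker χ).comap (algebraMap (R' ⊗[A] C) D) = P' := by
    rw [← hPeq]; ext z
    show χ (algebraMap _ D z) = 0 ↔ χT z = 0
    rw [hχ]
  refine ⟨R', inferInstance, algebraMap A R', RingHom.etale_algebraMap.mpr ‹_›, ⟨Pp, ‹_›⟩, D, inferInstance,
    algebraMap R' D, RingHom.finite_algebraMap.mpr hfinD, RingHom.finitePresentation_algebraMap.mpr inferInstance,
    ψ, χ, ?_, PrimeSpectrum.ext (Pp.over_def p).symm, ?_, ?_, fun dd => ⟨fun hdd => ?_, fun hdd => ?_⟩⟩
  · ext a
    show algebraMap (R' ⊗[A] C) D (1 ⊗ₜ algebraMap A C a) = algebraMap R' D (algebraMap A R' a)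
    rw [IsScalarTower.algebraMap_apply R' (R' ⊗[A] C) D, ← IsScalarTower.algebraMap_apply A R' (R' ⊗[A] C)]
    congr 1
    rw [Algebra.algebraMap_eq_smul_one a, TensorProduct.tmul_smul, ← Algebra.TensorProduct.one_def,
      ← Algebra.algebraMap_eq_smul_one]
  · ext y
    show χ (algebraMap (R' ⊗[A] C) D _) = _
    rw [hχ]
    exact hTr _
  · have h2 : IsPullback (Spec.map (CommRingCat.ofHom (Algebra.TensorProduct.includeRight.toRingHom : C →+* R' ⊗[A] C)))
        (Spec.map (CommRingCat.ofHom (algebraMap R' (R' ⊗[A] C)))) (Spec.map (CommRingCat.ofHom (algebraMap A C)))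
        (Spec.map (CommRingCat.ofHom (algebraMap A R'))) :=
      isPullback_SpecMap_of_isPushout _ _ _ _ (CommRingCat.isPushout_tensorProduct A R' C).flip
    have hq2 : (Spec.map (CommRingCat.ofHom (Algebra.TensorProduct.includeRight.toRingHom : C →+* R' ⊗[A] C)))
        (⟨P', ‹_›⟩ : PrimeSpectrum (R' ⊗[A] C)) = (⟨q, ‹_›⟩ : PrimeSpectrum C) := PrimeSpectrum.ext hP'q
    have ho3 := UnivOpen.isOpenAt_of_isUnivOpenAt (isUnivOpenAt_baseChange h2 (x' := ⟨P', ‹_›⟩) (by rw [hq2]; exact ho2))
    have h4 := ho3 (PrimeSpectrum.basicOpen e : Set (PrimeSpectrum (R' ⊗[A] C)))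
      ((PrimeSpectrum.basicOpen e).isOpen.mem_nhds heP')
    rw [show (Spec.map (CommRingCat.ofHom (algebraMap R' (R' ⊗[A] C)))).base (⟨P', ‹_›⟩ : PrimeSpectrum (R' ⊗[A] C)) =
      (⟨Pp, ‹_›⟩ : PrimeSpectrum R') from PrimeSpectrum.ext (P'.over_def Pp).symm] at h4
    refine Filter.mem_of_superset h4 ?_
    rintro _ ⟨t, ht, rfl⟩
    obtain ⟨t', rfl⟩ := (PrimeSpectrum.localization_away_comap_range D e).ge ht
    exact ⟨t', by rw [IsScalarTower.algebraMap_eq R' (R' ⊗[A] C) D]; rfl⟩
  · let Q := dd.asIdeal.comap (algebraMap (R' ⊗[A] C) D)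
    haveI : Q.LiesOver Pp := ⟨by
      rw [Ideal.under_def, Ideal.comap_comap, ← IsScalarTower.algebraMap_eq]
      exact (congrArg PrimeSpectrum.asIdeal hdd).symm⟩
    have heQ : e ∉ Q := fun h => dd.isPrime.ne_top
      (Ideal.eq_top_of_isUnit_mem _ h (IsLocalization.Away.algebraMap_isUnit e))
    have hQ := huniq Q inferInstance inferInstance heQ
    rw [← IsLocalization.map_comap (Submonoid.powers e) D dd.asIdeal,
      ← IsLocalization.map_comap (Submonoid.powers e) D (RingHom.ker χ), Ideal.under_def, Ideal.under_def, hkerχ]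
    exact congrArg _ hQ
  · refine PrimeSpectrum.ext ?_
    show dd.asIdeal.comap (algebraMap R' D) = Pp
    rw [hdd, IsScalarTower.algebraMap_eq R' (R' ⊗[A] C) D, ← Ideal.comap_comap, hkerχ]
    exact (P'.over_def Pp).symm


set_option maxHeartbeats 1000000 in
/-- A finite étale-local quasi-section through a point that is quasi-finite and universally open over
affine space. -/
theorem exists_etale_finite {A B : Type u} [CommRing A] [CommRing B] [Algebra A B]
    [Algebra.FinitePresentation A B] {σ : Type u} [Fintype σ] (b : σ → B)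
    (hQF : letI := (MvPolynomial.aeval (R := A) b).toRingHom.toAlgebra
      Algebra.QuasiFinite (MvPolynomial σ A) B)
    (p : Ideal A) [p.IsPrime] (P : Ideal B) [hPp : P.IsPrime] [P.LiesOver p]
    (hres : (Ideal.ResidueField.map p P (algebraMap A B) (P.over_def p)).Finite)
    (hopen : EGA43.IsUnivOpenAt (Spec.map (CommRingCat.ofHom (MvPolynomial.aeval (R := A) b).toRingHom))
      (⟨P, hPp⟩ : PrimeSpectrum B)) :
    ∃ (R' : Type u) (_ : CommRing R') (φ : A →+* R') (_ : φ.Etale) (Pp : PrimeSpectrum R')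
      (D : Type u) (_ : CommRing D) (π : R' →+* D) (_ : π.Finite) (_ : π.FinitePresentation) (ψ : B →+* D)
      (χ : D →+* P.ResidueField),
      ψ.comp (algebraMap A B) = π.comp φ ∧ PrimeSpectrum.comap φ Pp = ⟨p, ‹_›⟩ ∧
      χ.comp ψ = algebraMap B P.ResidueField ∧
      Set.range (PrimeSpectrum.comap π) ∈ nhds Pp ∧
      (∀ d : PrimeSpectrum D, PrimeSpectrum.comap π d = Pp ↔ d.asIdeal = RingHom.ker χ) := by
  classical
  let AX := MvPolynomial σ A
  let L := P.ResidueField
  letI : Algebra p.ResidueField L := (Ideal.ResidueField.map p P (algebraMap A B) (P.over_def p)).toAlgebra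
  haveI : IsScalarTower A p.ResidueField L := .of_algebraMap_eq fun a => by
    rw [RingHom.algebraMap_toAlgebra, Ideal.ResidueField.map_algebraMap, ← IsScalarTower.algebraMap_apply]
  haveI : FiniteDimensional p.ResidueField L := hres
  letI algB : Algebra AX B := (MvPolynomial.aeval (R := A) b).toRingHom.toAlgebra
  haveI : Algebra.QuasiFinite AX B := hQF
  haveI : IsScalarTower A AX B := .of_algebraMap_eq fun a => ((MvPolynomial.aeval (R := A) b).commutes a).symm
  obtain ⟨S₀, _, _, hfin, hfree, hprime, eL, heL⟩ := CAlgOdd.FiniteResidue.exists_residueField p (L := L)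
  let pS := p.map (algebraMap A S₀)
  let π₀ : S₀ →ₐ[A] L :=
    { eL.toRingHom.comp (algebraMap S₀ pS.ResidueField) with
      commutes' := fun a => by
        show eL (algebraMap S₀ pS.ResidueField (algebraMap A S₀ a)) = _
        rw [← IsScalarTower.algebraMap_apply]
        exact heL a }
  have hfrac : ∀ z : L, ∃ x y : S₀, π₀ y ≠ 0 ∧ z * π₀ y = π₀ x := fun z => by
    obtain ⟨x, y, hy, hz⟩ := IsFractionRing.div_surjective (S₀ ⧸ pS) (eL.symm z)
    obtain ⟨x, rfl⟩ := Ideal.Quotient.mk_surjective x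
    obtain ⟨y, rfl⟩ := Ideal.Quotient.mk_surjective y
    have hy' : π₀ y ≠ 0 := by
      show eL (algebraMap S₀ pS.ResidueField y) ≠ 0
      rw [map_ne_zero_iff _ eL.injective, Ne, Ideal.algebraMap_residueField_eq_zero,
        ← Ideal.Quotient.eq_zero_iff_mem]
      exact nonZeroDivisors.ne_zero hy
    refine ⟨x, y, hy', ?_⟩
    have hx : ∀ w, algebraMap (S₀ ⧸ pS) pS.ResidueField (Ideal.Quotient.mk pS w) = algebraMap S₀ pS.ResidueField w :=
      fun _ => rfl
    have h : z = eL (algebraMap S₀ pS.ResidueField x / algebraMap S₀ pS.ResidueField y) := by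
      rw [← hx, ← hx, hz, RingEquiv.apply_symm_apply]
    rw [h, map_div₀]
    exact div_mul_cancel₀ _ hy'
  choose num den hden hnum using fun i => hfrac (algebraMap B L (b i))
  let d : S₀ := ∏ i, den i
  have hd : π₀ d ≠ 0 := by
    rw [map_prod]; exact Finset.prod_ne_zero_iff.mpr fun i _ => hden i
  let Sb := Localization.Away d
  let χS : Sb →ₐ[A] L := IsLocalization.liftAlgHom (M := Submonoid.powers d) (f := π₀) fun y => by
    obtain ⟨_, m, rfl⟩ := y
    simp only [map_pow]
    exact (IsUnit.mk0 _ hd).pow m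
  have hlift : ∀ i, ∃ c : Sb, χS c = algebraMap B L (b i) := fun i => by
    obtain ⟨e, he⟩ : den i ∣ d := Finset.dvd_prod_of_mem _ (Finset.mem_univ i)
    refine ⟨algebraMap S₀ Sb (num i * e) * IsLocalization.Away.invSelf d, ?_⟩
    have h1 : χS (algebraMap S₀ Sb d) = π₀ d := IsLocalization.lift_eq _ _
    have h2 : χS (IsLocalization.Away.invSelf d) * π₀ d = 1 := by
      rw [← h1, ← map_mul, mul_comm, IsLocalization.Away.mul_invSelf, map_one]
    have h3 : χS (algebraMap S₀ Sb (num i * e)) = π₀ (num i) * π₀ e := by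
      rw [← map_mul]; exact IsLocalization.lift_eq _ _
    rw [map_mul, h3, ← hnum i]
    calc algebraMap B L (b i) * π₀ (den i) * π₀ e * χS (IsLocalization.Away.invSelf d)
        = algebraMap B L (b i) * (χS (IsLocalization.Away.invSelf d) * π₀ (den i * e)) := by rw [map_mul]; ring
      _ = algebraMap B L (b i) := by rw [← he, h2, mul_one]
  choose c hc using hlift
  letI algS : Algebra AX Sb := (MvPolynomial.aeval (R := A) c).toRingHom.toAlgebra
  haveI : IsScalarTower A AX Sb := .of_algebraMap_eq fun a => ((MvPolynomial.aeval (R := A) c).commutes a).symm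
  let C := Sb ⊗[AX] B
  haveI : Algebra.QuasiFinite A Sb := inferInstanceAs (Algebra.QuasiFinite A (Localization (Submonoid.powers d)))
  haveI : Algebra.QuasiFinite A C := .trans A Sb C
  haveI : Module.FinitePresentation A S₀ := Module.finitePresentation_of_projective A S₀
  haveI : Algebra.FinitePresentation A S₀ := Algebra.FinitePresentation.of_finitePresentation A S₀
  haveI : Algebra.FinitePresentation S₀ Sb := IsLocalization.Away.finitePresentation d
  haveI : Algebra.FinitePresentation A Sb := .trans A S₀ Sb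
  haveI : Algebra.FiniteType A AX := inferInstance
  haveI : Algebra.FinitePresentation AX B := .of_restrict_scalars_finitePresentation A AX B
  haveI : Algebra.FinitePresentation A C := .trans A Sb C
  have hcompat : ∀ x : AX, χS (algebraMap AX Sb x) = algebraMap B L (algebraMap AX B x) := by
    intro x
    refine RingHom.congr_fun (f := χS.toRingHom.comp (algebraMap AX Sb))
      (g := (algebraMap B L).comp (algebraMap AX B)) (MvPolynomial.ringHom_ext (fun a => ?_) fun i => ?_) x
    · show χS (MvPolynomial.aeval c (MvPolynomial.C a)) = algebraMap B L (MvPolynomial.aeval b (MvPolynomial.C a))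
      rw [MvPolynomial.aeval_C, MvPolynomial.aeval_C, AlgHom.commutes, ← IsScalarTower.algebraMap_apply]
    · show χS (MvPolynomial.aeval c (MvPolynomial.X i)) = algebraMap B L (MvPolynomial.aeval b (MvPolynomial.X i))
      rw [MvPolynomial.aeval_X, MvPolynomial.aeval_X, hc]
  haveI : IsScalarTower AX B L := inferInstance
  haveI : IsScalarTower A AX L := .of_algebraMap_eq fun a => by
    rw [IsScalarTower.algebraMap_apply AX B L, ← IsScalarTower.algebraMap_apply A AX B, ← IsScalarTower.algebraMap_apply A B L]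
  let χC : C →ₐ[AX] L := Algebra.TensorProduct.lift (A := Sb) (B := B)
    { χS.toRingHom with commutes' := fun x => (hcompat x).trans (IsScalarTower.algebraMap_apply AX B L x).symm }
    { algebraMap B L with commutes' := fun x => (IsScalarTower.algebraMap_apply AX B L x).symm } (fun _ _ => Commute.all _ _)
  have hχB : ∀ y : B, χC (1 ⊗ₜ y) = algebraMap B L y := fun y => by
    rw [Algebra.TensorProduct.lift_tmul, map_one, _root_.one_mul]; rfl
  let q : Ideal C := RingHom.ker χC
  haveI : q.IsPrime := RingHom.ker_isPrime _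
  have hχA : ∀ a : A, χC (algebraMap A C a) = algebraMap A L a := fun a => by
    rw [IsScalarTower.algebraMap_apply A AX C, AlgHom.commutes, ← IsScalarTower.algebraMap_apply]
  haveI : q.LiesOver p := ⟨by
    ext a
    rw [Ideal.under_def, Ideal.mem_comap]
    show a ∈ p ↔ χC (algebraMap A C a) = 0
    rw [hχA, IsScalarTower.algebraMap_apply A B L, Ideal.algebraMap_residueField_eq_zero,
      P.over_def p, Ideal.under_def, Ideal.mem_comap]⟩
  have h1 : IsPullback (Spec.map (CommRingCat.ofHom (Algebra.TensorProduct.includeRight.toRingHom : B →+* C)))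
      (Spec.map (CommRingCat.ofHom (algebraMap Sb C))) (Spec.map (CommRingCat.ofHom (algebraMap AX B)))
      (Spec.map (CommRingCat.ofHom (algebraMap AX Sb))) :=
    isPullback_SpecMap_of_isPushout _ _ _ _ (CommRingCat.isPushout_tensorProduct AX Sb B).flip
  have hq1 : (Spec.map (CommRingCat.ofHom (Algebra.TensorProduct.includeRight.toRingHom : B →+* C)))
      (⟨q, ‹_›⟩ : PrimeSpectrum C) = (⟨P, hPp⟩ : PrimeSpectrum B) := by
    refine PrimeSpectrum.ext (Ideal.ext fun y => ?_)
    show χC (1 ⊗ₜ y) = 0 ↔ y ∈ P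
    rw [hχB, Ideal.algebraMap_residueField_eq_zero]
  have ho1 : EGA43.IsUnivOpenAt (Spec.map (CommRingCat.ofHom (algebraMap Sb C))) (⟨q, ‹_›⟩ : PrimeSpectrum C) :=
    isUnivOpenAt_baseChange h1 (by rw [hq1]; exact hopen)
  haveI : UniversallyOpen (Spec.map (CommRingCat.ofHom (algebraMap A Sb))) := by
    haveI : Module.Flat S₀ Sb := IsLocalization.flat Sb (Submonoid.powers d)
    haveI : Module.Flat A Sb := Module.Flat.trans A S₀ Sb
    haveI : Flat (Spec.map (CommRingCat.ofHom (algebraMap A Sb))) :=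
      (HasRingHomProperty.Spec_iff (P := @Flat)).mpr (RingHom.flat_algebraMap_iff.mpr inferInstance)
    haveI : LocallyOfFinitePresentation (Spec.map (CommRingCat.ofHom (algebraMap A Sb))) :=
      (HasRingHomProperty.Spec_iff (P := @LocallyOfFinitePresentation)).mpr
        (RingHom.finitePresentation_algebraMap.mpr inferInstance)
    infer_instance
  have ho2 : EGA43.IsUnivOpenAt (Spec.map (CommRingCat.ofHom (algebraMap A C))) (⟨q, ‹_›⟩ : PrimeSpectrum C) := by
    rw [IsScalarTower.algebraMap_eq A Sb C, CommRingCat.ofHom_comp, Spec.map_comp]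
    exact Groth.Agent.S4925.result _ _ _ ho1 ((UnivOpen.universallyOpen_iff_forall _).mp inferInstance _)
  obtain ⟨R', _, φ, hφ, Pp, D, _, π, hπ, hπ', ψ, χ, hcomm, hPp', hχ, hnhds, huniq⟩ :=
    exists_etale_finite_part ({ χC.toRingHom with commutes' := hχA } : C →ₐ[A] L) p q rfl ho2
  let ι₁ : B →+* C := (Algebra.TensorProduct.includeRight (R := AX) (A := Sb) (B := B)).toRingHom
  refine ⟨R', inferInstance, φ, hφ, Pp, D, inferInstance, π, hπ, hπ', ψ.comp ι₁, χ, ?_, hPp', ?_, hnhds, huniq⟩
  · rw [RingHom.comp_assoc, ← hcomm]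
    congr 1
    ext a
    show (1 : Sb) ⊗ₜ[AX] algebraMap A B a = algebraMap A C a
    rw [IsScalarTower.algebraMap_apply A AX C, IsScalarTower.algebraMap_apply A AX B]
    rw [Algebra.algebraMap_eq_smul_one (A := B), TensorProduct.tmul_smul, ← Algebra.TensorProduct.one_def,
      ← Algebra.algebraMap_eq_smul_one]
  · rw [← RingHom.comp_assoc, hχ]
    ext y
    exact hχB y

end Groth.Agent.Deform.QuasiSection
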